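import Mathlib.RingTheory.Ideal.Cotangent
import Mathlib.RingTheory.Ideal.KrullsHeightTheorem
import Mathlib.RingTheory.KrullDimension.NonZeroDivisors
import Mathlib.RingTheory.RegularLocalRing.Defs
import Mathlib.LinearAlgebra.Dimension.Constructions

/-!
# Injectivity of local maps into regular local rings with injective cotangent map
-/

set_option autoImplicit false
set_option linter.style.haveILetI false

universe u v

open IsLocalRing

namespace Groth.Agent.TanDom

variable {B : Type u} {A : Type v} [CommRing B] [CommRing A] [IsLocalRing B] [IsNoetherianRing B]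

/-- Minimal generators of the source give independent elements of the cotangent space. -/
theorem exists_complement [IsLocalRing A] [IsNoetherianRing A] (φ : B →+* A) [IsLocalHom φ]
    (hres : Function.Surjective ((residue A).comp φ))
    (h : ∀ b ∈ maximalIdeal B, φ b ∈ maximalIdeal A ^ 2 → b ∈ maximalIdeal B ^ 2) :
    ∃ t : Finset A, (maximalIdeal A) = (maximalIdeal B).map φ ⊔ Ideal.span (t : Set A) ∧
      t.card + (maximalIdeal B).spanFinrank ≤ (maximalIdeal A).spanFinrank := by
  classical
  set r := (maximalIdeal B).spanFinrank with hr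
  have hmap : ∀ b ∈ maximalIdeal B, φ b ∈ maximalIdeal A := fun b hb => map_nonunit φ b hb
  let bas : Module.Basis (Fin (Module.finrank (ResidueField B) (CotangentSpace B)))
      (ResidueField B) (CotangentSpace B) := Module.finBasis _ _
  have hsurj := Ideal.toCotangent_surjective (maximalIdeal B)
  choose g hg using fun i => hsurj (bas i)
  let v : Fin (Module.finrank (ResidueField B) (CotangentSpace B)) → CotangentSpace A :=
    fun i => (maximalIdeal A).toCotangent ⟨φ (g i), hmap _ (g i).2⟩
  have hv : LinearIndependent (ResidueField A) v := by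
    rw [Fintype.linearIndependent_iff]
    intro c hc i
    choose c' hc' using fun i => hres (c i)
    let w : maximalIdeal B := ∑ j, c' j • g j
    have h1 : φ w.1 ∈ maximalIdeal A ^ 2 := by
      rw [← Ideal.toCotangent_eq_zero (maximalIdeal A) ⟨φ w.1, hmap _ w.2⟩]
      have : (⟨φ w.1, hmap _ w.2⟩ : maximalIdeal A) =
          ∑ j, φ (c' j) • (⟨φ (g j), hmap _ (g j).2⟩ : maximalIdeal A) := by
        apply Subtype.ext
        simp [w, map_sum]
      rw [this, map_sum]
      refine Eq.trans ?_ hc
      refine Finset.sum_congr rfl fun j _ => ?_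
      rw [LinearMap.map_smul, ← hc' j]
      exact (algebraMap_smul (ResidueField A) (φ (c' j)) (v j)).symm
    have h2 := (Ideal.toCotangent_eq_zero (maximalIdeal B) w).2 (h _ w.2 h1)
    have h3 : ∑ j, residue B (c' j) • bas j = 0 := by
      refine Eq.trans ?_ h2
      rw [map_sum]
      refine Finset.sum_congr rfl fun j _ => ?_
      rw [LinearMap.map_smul, hg]
      exact algebraMap_smul (ResidueField B) (c' j) (bas j)
    have h4 : c' i ∈ maximalIdeal B :=
      Ideal.Quotient.eq_zero_iff_mem.1 (Fintype.linearIndependent_iff.1 bas.linearIndependent _ h3 i)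
    rw [← hc' i, RingHom.comp_apply, residue_eq_zero_iff]
    exact hmap _ h4
  obtain ⟨W, hW⟩ := Submodule.exists_isCompl (Submodule.span (ResidueField A) (Set.range v))
  let bw : Module.Basis (Fin (Module.finrank (ResidueField A) W)) (ResidueField A) W :=
    Module.finBasis _ _
  choose e he using fun i => Ideal.toCotangent_surjective (maximalIdeal A) (bw i).1
  have hdim : Module.finrank (ResidueField A) W + r = (maximalIdeal A).spanFinrank := by
    rw [hr, spanFinrank_maximalIdeal_eq_finrank_cotangentSpace,
      spanFinrank_maximalIdeal_eq_finrank_cotangentSpace, ← Submodule.finrank_add_eq_of_isCompl hW,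
      finrank_span_eq_card hv, Fintype.card_fin, add_comm]
  let s : Set (maximalIdeal A) :=
    Set.range (fun i => (⟨φ (g i), hmap _ (g i).2⟩ : maximalIdeal A)) ∪ Set.range e
  have hs : Submodule.span A s = ⊤ := by
    rw [← IsLocalRing.CotangentSpace.span_image_eq_top_iff, Set.image_union, ← Set.range_comp,
      ← Set.range_comp, Submodule.span_union, ← top_le_iff, ← hW.sup_eq_top]
    refine sup_le_sup le_rfl ?_
    rw [show (maximalIdeal A).toCotangent ∘ e = fun i => W.subtype (bw i) from funext he,
      Set.range_comp', ← Submodule.map_span, bw.span_eq, Submodule.map_top, Submodule.range_subtype]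
  refine ⟨Finset.univ.image fun i => (e i).1, le_antisymm ?_ (sup_le ?_ ?_), ?_⟩
  · intro a ha
    have h5 : (⟨a, ha⟩ : maximalIdeal A) ∈ Submodule.span A s := hs ▸ Submodule.mem_top
    have h6 := Submodule.mem_map_of_mem (f := (maximalIdeal A).subtype) h5
    rw [Submodule.map_span] at h6
    refine Submodule.span_le.2 ?_ h6
    rintro _ ⟨x, hx | hx, rfl⟩
    · obtain ⟨i, rfl⟩ := hx
      exact Ideal.mem_sup_left (Ideal.mem_map_of_mem φ (g i).2)
    · obtain ⟨i, rfl⟩ := hx
      exact Ideal.mem_sup_right (Ideal.subset_span (by simp))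
  · exact Ideal.map_le_iff_le_comap.2 hmap
  · rw [Ideal.span_le]
    intro a ha
    simp only [Finset.coe_image, Finset.coe_univ, Set.image_univ, Set.mem_range] at ha
    obtain ⟨i, rfl⟩ := ha
    exact (e i).2
  · refine le_trans (Nat.add_le_add_right (Finset.card_image_le.trans ?_) _) hdim.le
    simp

/-- A local homomorphism from a noetherian local domain to a regular local ring, inducing a
surjection on residue fields and an injection on cotangent spaces, is injective. -/
theorem injective_of_cotangent_injective [IsDomain B] [IsRegularLocalRing A] (φ : B →+* A)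
    [IsLocalHom φ] (hres : Function.Surjective ((residue A).comp φ))
    (h : ∀ b ∈ maximalIdeal B, φ b ∈ maximalIdeal A ^ 2 → b ∈ maximalIdeal B ^ 2) :
    Function.Injective φ := by
  classical
  obtain ⟨t, ht, hcard⟩ := exists_complement φ hres h
  rw [injective_iff_map_eq_zero]
  intro x hx
  by_contra hx0
  have hxu : Ideal.span {x} ≠ ⊤ := by
    rw [Ne, Ideal.span_singleton_eq_top]
    exact fun hu => not_isUnit_zero (hx ▸ hu.map φ)
  haveI : Nontrivial (B ⧸ Ideal.span {x}) := Ideal.Quotient.nontrivial_iff.2 hxu
  haveI : IsLocalRing (B ⧸ Ideal.span {x}) :=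
    IsLocalRing.of_surjective' (Ideal.Quotient.mk _) Ideal.Quotient.mk_surjective
  let ψ : B ⧸ Ideal.span {x} →+* A :=
    Ideal.Quotient.lift _ φ fun a ha => by
      obtain ⟨c, rfl⟩ := Ideal.mem_span_singleton'.1 ha
      simp [hx]
  letI := ψ.toAlgebra
  haveI : (maximalIdeal A).LiesOver (maximalIdeal (B ⧸ Ideal.span {x})) := by
    constructor
    ext c
    obtain ⟨c, rfl⟩ := Ideal.Quotient.mk_surjective c
    simp only [Ideal.under_def, Ideal.mem_comap, mem_maximalIdeal, mem_nonunits_iff]
    refine not_congr ⟨fun hu => ?_, fun hu => ?_⟩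
    · exact hu.map ψ
    · exact (isUnit_of_map_unit φ c hu).map _
  have h1 := Ideal.height_le_height_add_of_liesOver (maximalIdeal (B ⧸ Ideal.span {x})) (maximalIdeal A)
  set I := (maximalIdeal (B ⧸ Ideal.span {x})).map (algebraMap (B ⧸ Ideal.span {x}) A) with hI
  set P := (maximalIdeal A).map (Ideal.Quotient.mk I) with hP
  have hIφ : (maximalIdeal B).map φ ≤ I := by
    rw [Ideal.map_le_iff_le_comap]
    intro b hb
    haveI : IsLocalHom (Ideal.Quotient.mk (Ideal.span {x})) :=
      IsLocalHom.of_surjective _ Ideal.Quotient.mk_surjective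
    exact Ideal.mem_map_of_mem ψ (map_nonunit (Ideal.Quotient.mk (Ideal.span {x})) b hb)
  have hIm : I ≤ maximalIdeal A := Ideal.map_le_iff_le_comap.2
    (Ideal.LiesOver.over (p := maximalIdeal (B ⧸ Ideal.span {x})) (P := maximalIdeal A)).le
  have hPspan : P = Ideal.span ((t.image (Ideal.Quotient.mk I) : Finset (A ⧸ I)) : Set (A ⧸ I)) := by
    rw [hP, ht, Ideal.map_sup, Ideal.map_span, Finset.coe_image]
    have : ((maximalIdeal B).map φ).map (Ideal.Quotient.mk I) = ⊥ :=
      (Ideal.map_eq_bot_iff_le_ker _).2 (by rw [Ideal.mk_ker]; exact hIφ)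
    rw [this, bot_sup_eq]
  have hPtop : P ≠ ⊤ := by
    intro htop
    have := congrArg (Ideal.comap (Ideal.Quotient.mk I)) htop
    rw [hP, Ideal.comap_map_of_surjective _ Ideal.Quotient.mk_surjective, Ideal.comap_top,
      ← RingHom.ker_eq_comap_bot, Ideal.mk_ker, sup_eq_left.2 hIm] at this
    exact (maximalIdeal.isMaximal A).ne_top this
  have h2 : P.height ≤ (t.card : ℕ∞) :=
    (Ideal.height_le_spanFinrank P hPtop).trans (Nat.cast_le.2 (by
      rw [hPspan]
      refine (Submodule.spanFinrank_span_le_ncard_of_finite (Finset.finite_toSet _)).trans ?_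
      rw [Set.ncard_coe_finset]
      exact Finset.card_image_le))
  have h3 : ((maximalIdeal (B ⧸ Ideal.span {x})).height : WithBot ℕ∞) + 1 ≤
      (((maximalIdeal B).spanFinrank : ℕ∞) : WithBot ℕ∞) := by
    rw [IsLocalRing.maximalIdeal_height_eq_ringKrullDim]
    exact (ringKrullDim_quotient_succ_le_of_nonZeroDivisor
      (mem_nonZeroDivisors_of_ne_zero hx0)).trans (ringKrullDim_le_spanFinrank_maximalIdeal B)
  have h4 : ((maximalIdeal A).height : WithBot ℕ∞) = ((maximalIdeal A).spanFinrank : ℕ∞) := by
    rw [IsLocalRing.maximalIdeal_height_eq_ringKrullDim]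
    exact ((isRegularLocalRing_iff A).1 ‹_›).symm
  rw [WithBot.coe_inj] at h4
  have h3' : (maximalIdeal (B ⧸ Ideal.span {x})).height + 1 ≤ ((maximalIdeal B).spanFinrank : ℕ∞) := by
    exact_mod_cast h3
  have h5 := h1.trans (add_le_add le_rfl h2)
  rw [h4] at h5
  have h6 : ((maximalIdeal A).spanFinrank : ℕ∞) + 1 ≤
      (((maximalIdeal B).spanFinrank + t.card : ℕ) : ℕ∞) := by
    push_cast
    calc _ ≤ (maximalIdeal (B ⧸ Ideal.span {x})).height + (t.card : ℕ∞) + 1 := add_le_add h5 le_rfl
      _ = (maximalIdeal (B ⧸ Ideal.span {x})).height + 1 + (t.card : ℕ∞) := by abel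
      _ ≤ _ := add_le_add h3' le_rfl
  norm_cast at h6
  omega

end Groth.Agent.TanDom
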